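import Groth.Prelude.Def_FEt
import Groth.Agent.Rigidity.Basic

/-!
# Faithfulness of restriction of finite étale covers
-/

set_option autoImplicit false
set_option backward.isDefEq.respectTransparency.types false
universe u
open CategoryTheory CategoryTheory.Limits AlgebraicGeometry

namespace Groth.Agent.FEtFaithful

/-- Two morphisms of finite étale covers agreeing over `X` are equal, if every nonempty clopen
subset of `Y` meets the image of `X`. -/
lemma eq_of_fst_comp_eq {X Y A B : Scheme.{u}} (f : X ⟶ Y) (p : A ⟶ Y) (q : B ⟶ Y)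
    [IsFinite p] [Etale p] [IsFinite q] [Etale q] (a b : A ⟶ B)
    (ha : a ≫ q = p) (hb : b ≫ q = p)
    (hf : ∀ Z : Set Y, IsClopen Z → Z.Nonempty → (Z ∩ Set.range f).Nonempty)
    (he : pullback.fst p f ≫ a = pullback.fst p f ≫ b) : a = b := by
  have hab : a ≫ q = b ≫ q := ha.trans hb.symm
  apply Rigidity.eq_of_range_eq_univ q a b hab
  let i := pullback.fst (pullback.lift a b hab) (pullback.diagonal q)
  have : IsOpenImmersion i := MorphismProperty.pullback_fst _ _ inferInstance
  have : IsClosedImmersion i := MorphismProperty.pullback_fst _ _ inferInstance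
  by_contra hne
  change Set.range i ≠ Set.univ at hne
  have hclopen : IsClopen (Set.range i) :=
    ⟨i.isClosedEmbedding.isClosed_range, i.isOpenEmbedding.isOpen_range⟩
  have hZ : IsClopen (p '' (Set.range i)ᶜ) :=
    ⟨p.isClosedMap _ hclopen.compl.isClosed, p.isOpenMap _ hclopen.compl.isOpen⟩
  obtain ⟨y, ⟨z, hz, rfl⟩, ⟨x, hx⟩⟩ := hf _ hZ ((Set.nonempty_compl.mpr hne).image _)
  apply hz
  let l : pullback p f ⟶ pullback (pullback.lift a b hab) (pullback.diagonal q) :=
    pullback.lift (pullback.fst p f) (pullback.fst p f ≫ a)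
      (Rigidity.comp_lift_eq q a b hab _ he)
  obtain ⟨w, hw, -⟩ := Scheme.Pullback.exists_preimage_pullback (f := p) (g := f) z x hx.symm
  refine ⟨l w, ?_⟩
  rw [← hw, ← Scheme.Hom.comp_apply, pullback.lift_fst]

/-- Restriction of finite étale covers along `f` is faithful if every nonempty clopen of the target
meets the image of `f`. -/
lemma restrict_faithful {X Y : Scheme.{u}} (f : X ⟶ Y)
    (hf : ∀ Z : Set Y, IsClopen Z → Z.Nonempty → (Z ∩ Set.range f).Nonempty) :
    (FEt.restrict f).Faithful := by
  refine ⟨fun {A B} a b hab ↦ ?_⟩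
  have : IsFinite A.hom := A.prop.1
  have : Etale A.hom := A.prop.2
  have : IsFinite B.hom := B.prop.1
  have : Etale B.hom := B.prop.2
  apply MorphismProperty.Over.Hom.ext
  refine eq_of_fst_comp_eq f A.hom B.hom a.left b.left (MorphismProperty.Over.w a)
    (MorphismProperty.Over.w b) hf ?_
  have := congrArg (fun t ↦ t.left ≫ pullback.fst B.hom f) hab
  simp [FEt.restrict] at this
  erw [pullback.lift_fst, pullback.lift_fst] at this
  exact this

end Groth.Agent.FEtFaithful
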